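import Mathlib.GroupTheory.CosetCover
import Mathlib.RingTheory.Nakayama
import Mathlib.RingTheory.LocalRing.ResidueField.Basic

/-!
Avoiding finitely many proper submodules of a finite free module over a local ring with infinite residue field.
-/

universe u v

namespace Groth.Agent.GenSec15

open IsLocalRing

variable {A : Type u} [CommRing A] [IsLocalRing A] {n : ℕ}

/-- Reduction of vectors modulo the maximal ideal. -/
noncomputable def red : (Fin n → A) →ₛₗ[residue A] (Fin n → ResidueField A) where
  toFun a i := residue A (a i)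
  map_add' a b := funext fun i => map_add _ _ _
  map_smul' r a := funext fun i => map_mul _ _ _

theorem red_surjective : Function.Surjective (red (A := A) (n := n)) := fun b =>
  ⟨fun i => (residue_surjective (b i)).choose, funext fun i => (residue_surjective (b i)).choose_spec⟩

theorem ker_red_le : LinearMap.ker (red (A := A) (n := n)) ≤ maximalIdeal A • (⊤ : Submodule A (Fin n → A)) := by
  intro a ha
  rw [pi_eq_sum_univ a]
  refine Submodule.sum_mem _ fun i _ => Submodule.smul_mem_smul ?_ Submodule.mem_top
  exact Ideal.Quotient.eq_zero_iff_mem.mp (congrFun (LinearMap.mem_ker.mp ha) i)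

/-- A vector outside finitely many proper submodules. -/
theorem exists_forall_notMem [Infinite (ResidueField A)] {ι : Type v} [Finite ι]
    (P : ι → Submodule A (Fin n → A)) (hP : ∀ i, P i ≠ ⊤) : ∃ a : Fin n → A, ∀ i, a ∉ P i := by
  classical
  cases nonempty_fintype ι
  haveI : RingHomSurjective (residue A) := ⟨residue_surjective⟩
  let s : Finset (Subspace (ResidueField A) (Fin n → ResidueField A)) :=
    Finset.univ.image fun i => (P i).map (red (A := A) (n := n))
  have hs : ⊤ ∉ s := by
    intro h
    obtain ⟨i, -, hi⟩ := Finset.mem_image.mp h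
    refine hP i (top_le_iff.mp (Submodule.le_of_le_smul_of_le_jacobson_bot (I := maximalIdeal A)
      Module.Finite.fg_top (maximalIdeal_le_jacobson ⊥) fun a _ => ?_))
    obtain ⟨b, hb, hba⟩ := Submodule.mem_map.mp (show red a ∈ (P i).map (red (A := A) (n := n)) from hi ▸ trivial)
    refine Submodule.mem_sup.mpr ⟨b, hb, a - b, ker_red_le (LinearMap.mem_ker.mpr ?_), by abel⟩
    rw [map_sub, hba, sub_self]
  obtain ⟨v, hv⟩ := (Set.ne_univ_iff_exists_notMem _).mp (Subspace.biUnion_ne_univ_of_top_notMem hs)
  obtain ⟨a, rfl⟩ := red_surjective v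
  exact ⟨a, fun i hi => hv (Set.mem_iUnion₂.mpr
    ⟨_, Finset.mem_image.mpr ⟨i, Finset.mem_univ i, rfl⟩, Submodule.mem_map_of_mem hi⟩)⟩

end Groth.Agent.GenSec15
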